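import Groth.Agent.Curve11.MuAffineLine
import Groth.Agent.EtLC12.MuConst
import Groth.Agent.SmAcyc.HensLine
import Groth.Agent.AcycCover.Fibres
import Groth.Agent.MorLib.RingUnivHomeo
import Mathlib.AlgebraicGeometry.AffineSpace
import Mathlib.FieldTheory.IsAlgClosed.AlgebraicClosure

/-!
# The geometric fibres of an affine line are acyclic
-/

set_option autoImplicit false
set_option linter.style.haveILetI false
universe u

open CategoryTheory CategoryTheory.Limits AlgebraicGeometry Opposite Polynomial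

namespace Groth.Agent.AffLineAcyc

open Groth.Agent.EtFound

set_option backward.isDefEq.respectTransparency.types false

/-- the affine line over an algebraically closed field -/
theorem isAcyclicSchemeN_algClosed (k : Type u) [Field k] [IsAlgClosed k] (L : Set ℕ)
    (hL : ∀ ℓ ∈ L, ℓ.Prime → (ℓ : k) ≠ 0) (n : ℕ) :
    EtAcyc.IsAcyclicSchemeN L n (Spec (CommRingCat.of k[X])) := by
  refine ⟨inferInstanceAs (Nonempty (PrimeSpectrum k[X])), inferInstanceAs (ConnectedSpace (PrimeSpectrum k[X])),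
    fun ℓ hℓ hℓL q h1 _ => ?_⟩
  haveI : NeZero ℓ := ⟨hℓ.ne_zero⟩
  haveI : NeZero (ℓ : k) := ⟨hL ℓ hℓL hℓ⟩
  obtain ⟨m, rfl⟩ : ∃ m, q = m + 1 := ⟨q - 1, by omega⟩
  haveI := Curve11.subsingleton_H_mu_affineLine k ℓ (hL ℓ hℓL hℓ) m
  let φ : k →+* Γ(Spec (CommRingCat.of k[X]), ⊤) :=
    (Scheme.ΓSpecIso (CommRingCat.of k[X])).inv.hom.comp (Polynomial.C : k →+* k[X])
  obtain ⟨z, hz⟩ := IsAlgClosed.exists_root (cyclotomic ℓ k) (degree_cyclotomic_pos ℓ k hℓ.pos).ne'
  obtain ⟨e⟩ := EtLC12.MuConst.nonempty_mu_iso_const (X := Spec (CommRingCat.of k[X]))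
    (n := ℓ) (map_natCast φ ℓ ▸ (IsUnit.mk0 _ (hL ℓ hℓL hℓ)).map φ) (φ z) (by
      have h0 : aeval z (cyclotomic ℓ ℤ) = 0 := by
        rw [aeval_def, ← Polynomial.eval_map, map_cyclotomic]; exact hz
      rw [show aeval (φ z) (cyclotomic ℓ ℤ) = φ (aeval z _) from aeval_algHom_apply φ.toIntAlgHom z _, h0, map_zero])
  exact (EtBC.hmap_bijective_of_isIso e.hom (m + 1)).2.subsingleton

variable (I : Type u) [Unique I]

/-- the affine line over a field is a polynomial ring in one variable -/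
noncomputable def lineIso (k : Type u) [Field k] :
    𝔸(I; Spec (CommRingCat.of k)) ≅ Spec (CommRingCat.of k[X]) :=
  AffineSpace.SpecIso I (CommRingCat.of k) ≪≫
    Scheme.Spec.mapIso ((MvPolynomial.uniqueAlgEquiv k I).toRingEquiv.toCommRingCatIso).op.symm

/-- the affine line over a separably closed field -/
theorem isAcyclicSchemeN_sepClosed (Ω : Type u) [Field Ω] [IsSepClosed Ω] (L : Set ℕ)
    (hL : ∀ ℓ ∈ L, ℓ.Prime → (ℓ : Ω) ≠ 0) (n : ℕ) :
    EtAcyc.IsAcyclicSchemeN L n 𝔸(I; Spec (CommRingCat.of Ω)) := by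
  let K := AlgebraicClosure Ω
  let j : Spec (CommRingCat.of K) ⟶ Spec (CommRingCat.of Ω) := Spec.map (CommRingCat.ofHom (algebraMap Ω K))
  haveI : IsIntegralHom j :=
    IsIntegralHom.SpecMap_iff.2 (algebraMap_isIntegral_iff.2 Algebra.IsAlgebraic.isIntegral)
  haveI : UniversallyInjective j := (MorLib.RUH.universallyInjective_SpecMap_iff _).2
    (SmAcyc.radicial_of_isPurelyInseparable Ω K)
  haveI : Surjective j := ⟨fun p => ⟨default, Subsingleton.elim (α := PrimeSpectrum Ω) _ _⟩⟩
  have hp := (AffineSpace.isPullback_map (n := I) j).flip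
  haveI : IsIntegralHom (AffineSpace.map I j) := MorphismProperty.of_isPullback hp ‹IsIntegralHom j›
  haveI : UniversallyInjective (AffineSpace.map I j) := MorphismProperty.of_isPullback hp ‹UniversallyInjective j›
  haveI : Surjective (AffineSpace.map I j) := MorphismProperty.of_isPullback hp ‹Surjective j›
  refine SmAcyc.isAcyclicSchemeN_of_universalHomeomorph (AffineSpace.map I j)
    (AcycCover.isAcyclicSchemeN_of_iso (lineIso I K) (isAcyclicSchemeN_algClosed K L (fun ℓ hℓ hp h0 => hL ℓ hℓ hp ?_) n))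
  exact (algebraMap Ω K).injective (by rw [map_natCast, h0, map_zero])

end Groth.Agent.AffLineAcyc
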