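import Groth.Agent.AffLineAcyc.Fibre
import Groth.Agent.SmAcyc.Reduce
import Groth.Agent.SmAcyc.Cor
import Groth.Agent.S3470
import Groth.Agent.S3472
import Groth.Agent.S3510
import Groth.Agent.S3513
import Groth.Agent.S12182
import Groth.Agent.EtModAb.Shift
import Groth.Agent.EtFound.UnivInjPush
import Groth.Agent.EtLimit.Mates

/-!
# Affine spaces are acyclic
-/

set_option autoImplicit false
set_option linter.style.haveILetI false
universe u

open CategoryTheory CategoryTheory.Limits AlgebraicGeometry Opposite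

namespace Groth.Agent.AffLineAcyc

open Groth.Agent.EtFound

set_option backward.isDefEq.respectTransparency.types false

/-- the affine line is acyclic for the primes invertible on the base -/
theorem isAcyclicN_line (I : Type u) [Unique I] (Y : Scheme.{u}) (n : ℕ) :
    EtAcyc.IsAcyclicN (𝔸(I; Y) ↘ Y) (EtAcyc.primesInvertibleOn Y) n := by
  let g := 𝔸(I; Y) ↘ Y
  by_cases hL : ∃ ℓ ∈ EtAcyc.primesInvertibleOn Y, ℓ.Prime
  · haveI : Finite I := inferInstance
    haveI : Smooth g := S12182.smooth_affineSpace I Y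
    have hloc : EtAcyc.IsLocAcyclicN g (EtAcyc.primesInvertibleOn Y) n :=
      SmAcyc.isLocAcyclicN_mono g (fun ℓ hℓ _ => SmAcyc.primesInvertibleOn_of_hom g hℓ) (S3472.result g n)
    have h1 : EtAcyc.IsAcyclicN g (EtAcyc.primesInvertibleOn Y) (n + 1) := by
      refine (S3470.result g _ hL (n + 1) (by omega) hloc).2 ?_
      intro y Ω _ _ _ _
      refine AcycCover.isAcyclicSchemeN_of_iso (AffineSpace.isPullback_map (EtAcyc.geomPt Y y Ω)).isoPullback.symm
        (isAcyclicSchemeN_sepClosed I Ω _ (fun ℓ hℓ _ h0 => hℓ.2 y ?_) (n + 1))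
      exact (algebraMap (Y.residueField y) Ω).injective (by rw [map_natCast, h0, map_zero])
    exact AcycCover.isAcyclicN_mono (Nat.le_succ n) h1
  · exact fun V => SmAcyc.compN_of_no_prime _ hL n

/-- affine spaces are acyclic for the primes invertible on the base -/
theorem isAcyclicN_affineSpace (Y : Scheme.{u}) (n : ℕ) : ∀ m : ℕ,
    EtAcyc.IsAcyclicN (𝔸(ULift.{u} (Fin m); Y) ↘ Y) (EtAcyc.primesInvertibleOn Y) n := by
  intro m
  induction m with
  | zero => exact SmAcyc.isAcyclicN_of_isIso _ _ n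
  | succ m ih =>
    let I := ULift.{u} (Fin m)
    let J := ULift.{u} (Fin (m + 1))
    let B := 𝔸(I; Y)
    let g := 𝔸(PUnit.{u + 1}; B) ↘ B
    let c : J → Γ(𝔸(PUnit.{u + 1}; B), ⊤) := fun i =>
      Fin.lastCases (AffineSpace.coord B PUnit.unit) (fun j => g.appTop (AffineSpace.coord Y (ULift.up j))) i.down
    let e₁ : 𝔸(PUnit.{u + 1}; B) ⟶ 𝔸(J; Y) := AffineSpace.homOfVector (g ≫ B ↘ Y) c
    let r : 𝔸(J; Y) ⟶ B := AffineSpace.reindex (fun i : I => (ULift.up i.down.castSucc : J)) Y
    let e₂ : 𝔸(J; Y) ⟶ 𝔸(PUnit.{u + 1}; B) :=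
      AffineSpace.homOfVector r fun _ => AffineSpace.coord Y (ULift.up (Fin.last m))
    have hr : e₁ ≫ r = g := by
      refine AffineSpace.hom_ext ?_ fun i => ?_
      · rw [Category.assoc, AffineSpace.reindex_over, AffineSpace.homOfVector_over]
      · rw [Scheme.Hom.comp_appTop, CommRingCat.comp_apply, AffineSpace.reindex_appTop_coord,
          AffineSpace.homOfVector_appTop_coord]
        simp [c, B]
        rfl
    have hA : e₁ ≫ e₂ = 𝟙 _ := by
      refine AffineSpace.hom_ext ?_ fun i => ?_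
      · rw [Category.assoc, AffineSpace.homOfVector_over, hr, Category.id_comp]
      · rw [Scheme.Hom.comp_appTop, CommRingCat.comp_apply, AffineSpace.homOfVector_appTop_coord,
          AffineSpace.homOfVector_appTop_coord]
        simp [c, B]
    have hB : e₂ ≫ e₁ = 𝟙 _ := by
      refine AffineSpace.hom_ext ?_ fun i => ?_
      · rw [Category.assoc, AffineSpace.homOfVector_over, AffineSpace.homOfVector_over_assoc,
          AffineSpace.reindex_over, Category.id_comp]
      · rw [Scheme.Hom.comp_appTop, CommRingCat.comp_apply, AffineSpace.homOfVector_appTop_coord,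
          Scheme.Hom.id_appTop, CommRingCat.id_apply]
        obtain ⟨i⟩ := i
        induction i using Fin.lastCases with
        | last => simp [c, e₂]
        | cast j =>
          simp only [c, Fin.lastCases_castSucc]
          rw [← CommRingCat.comp_apply, ← Scheme.Hom.comp_appTop, AffineSpace.homOfVector_over,
            AffineSpace.reindex_appTop_coord]
    haveI : IsIso e₂ := ⟨e₁, hB, hA⟩
    have he : 𝔸(J; Y) ↘ Y = e₂ ≫ g ≫ B ↘ Y := by
      rw [AffineSpace.homOfVector_over_assoc, AffineSpace.reindex_over]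
    show EtAcyc.IsAcyclicN (𝔸(J; Y) ↘ Y) _ n
    rw [he]
    refine ((S3513.result e₂ (g ≫ B ↘ Y) _ n).1 (SmAcyc.isAcyclicN_of_isIso e₂ _ n)).1 ?_
    have hg : EtAcyc.IsAcyclicN g (EtAcyc.primesInvertibleOn Y) n := fun V F hF =>
      isAcyclicN_line PUnit.{u + 1} B n V F
        (SmAcyc.isLTorsion_mono (fun ℓ hℓ _ => SmAcyc.primesInvertibleOn_of_hom (B ↘ Y) hℓ) hF)
    exact ((S3513.result g (B ↘ Y) _ n).1 hg).1 ih

/-- the unit and vanishing are invariant under isomorphisms of sources -/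
theorem unit_of_iso_comp {W X Y : Scheme.{u}} (e : W ⟶ X) [IsIso e] (p : X ⟶ Y) (r : W ⟶ Y) (hr : e ≫ p = r)
    (F : EtCoh.Ab Y) (h1 : IsIso ((EtCoh.pullPushAdj r).unit.app F)) :
    IsIso ((EtCoh.pullPushAdj p).unit.app F) ∧
      ∀ q : ℕ, IsZero ((EtCoh.Rpush r q).obj ((EtCoh.pull r).obj F)) →
        IsZero ((EtCoh.Rpush p q).obj ((EtCoh.pull p).obj F)) := by
  subst hr
  let P := (EtCoh.pull p).obj F
  haveI hη : IsIso ((EtCoh.pullPushAdj e).unit.app P) := unit_isIso_of_surjective e P
  haveI : IsIso ((EtCore.pullComp e p).hom.app F) := ((EtCore.pullComp e p).app F).isIso_hom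
  refine ⟨?_, fun q hq => ?_⟩
  · have h := EtLimit.homEquiv_pullComp e p (G := F) (𝟙 ((EtCoh.pull e).obj P))
    replace h := ((congrArg ((EtCoh.pullPushAdj (e ≫ p)).homEquiv F _) (Category.comp_id _)).symm.trans h)
    rw [Adjunction.homEquiv_unit, Adjunction.homEquiv_unit, Adjunction.homEquiv_unit,
      CategoryTheory.Functor.map_id] at h
    replace h := h.trans (congrArg (fun z => ((EtCoh.pullPushAdj p).unit.app F ≫ (EtCoh.push p).map z) ≫ _) (Category.comp_id _))
    haveI : IsIso ((EtCoh.pullPushAdj (e ≫ p)).unit.app F ≫ (EtCoh.push (e ≫ p)).map ((EtCore.pullComp e p).hom.app F)) :=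
      IsIso.comp_isIso' h1 (Functor.map_isIso _ _)
    haveI h2 : IsIso (((EtCoh.pullPushAdj p).unit.app F ≫ (EtCoh.push p).map ((EtCoh.pullPushAdj e).unit.app P)) ≫
        (EtCoh.pushComp p e).hom.app _) := h ▸ this
    haveI h3 := @IsIso.of_isIso_comp_right _ _ _ _ _ _ ((EtCoh.pushComp p e).hom.app ((EtCoh.pull e).obj P))
      ((EtCoh.pushComp p e).app _).isIso_hom h2
    haveI h4 : IsIso ((EtCoh.push p).map ((EtCoh.pullPushAdj e).unit.app P)) := Functor.map_isIso _ _
    exact @IsIso.of_isIso_comp_right _ _ _ _ _ _ _ h4 h3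
  · haveI : (EtCoh.pull e).IsEquivalence := pull_isEquivalence_of_surjective e
    haveI : (EtCoh.push e).IsEquivalence :=
      (EtCoh.pullPushAdj e).isEquivalence_right_of_isEquivalence_left
    haveI : ∀ {A B : Scheme.{u}} (k : A ⟶ B), PreservesFiniteLimits (EtCoh.push k) := fun k => by
      haveI : PreservesLimitsOfSize.{0, 0} (EtCoh.push k) := (EtCoh.pullPushAdj k).rightAdjoint_preservesLimits
      exact PreservesLimitsOfSize.preservesFiniteLimits _
    haveI : PreservesFiniteColimits (EtCoh.push e) := inferInstance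
    haveI := pull_preservesFiniteLimits e
    obtain ⟨i⟩ := EtModAb.nonempty_rightDerived_comm (EtCoh.push (e ≫ p)) (EtCoh.push p) (EtCoh.push e) (𝟭 _)
      (Functor.rightUnitor _ ≪≫ (EtCoh.pushComp p e).symm)
      (fun I hI q => haveI := hI
        haveI : Injective ((EtCoh.push e).obj I) := Injective.injective_of_adjoint (EtCoh.pullPushAdj e) I
        (EtCoh.push p).isZero_rightDerived_obj_injective_succ q _)
      q ((EtCoh.pull (e ≫ p)).obj F)
    exact hq.of_iso (((EtCoh.push p).rightDerived q).mapIso (asIso ((EtCoh.pullPushAdj e).unit.app P) ≪≫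
      (EtCoh.push e).mapIso ((EtCore.pullComp e p).app F).symm) ≪≫ i.symm)

/-- acyclicity gives the unit isomorphism and the vanishing for the morphism itself -/
theorem unit_of_isAcyclicN {X Y : Scheme.{u}} (p : X ⟶ Y) {L : Set ℕ} {n : ℕ} (h : EtAcyc.IsAcyclicN p L n)
    (F : EtCoh.Ab Y) (hF : EtAcyc.IsLTorsion L F) :
    IsIso ((EtCoh.pullPushAdj p).unit.app F) ∧
      ∀ q : ℕ, 1 ≤ q → q ≤ n → IsZero ((EtCoh.Rpush p q).obj ((EtCoh.pull p).obj F)) := by
  obtain ⟨h1, h2⟩ := (S3510.result p L n).1 h (EtCoh.top Y) F hF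
  obtain ⟨k1, k2⟩ := unit_of_iso_comp (pullback.snd (𝟙 Y) p) p (EtAcyc.prj p (EtCoh.top Y))
    (pullback.condition.symm.trans (Category.comp_id _)) F h1
  exact ⟨k1, fun q hq hq' => k2 q (h2 q hq hq')⟩

end Groth.Agent.AffLineAcyc
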